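import Cfsg.Agent.Lib.J1.AutData
import Cfsg.Agent.Lib.H3.JankoOne
import Cfsg.Agent.S2131
import Cfsg.Prelude.Def_KGroupFacts

/-!
The involutions and the automorphisms of the first Janko group.
-/

set_option autoImplicit false

namespace Cfsg.Lib.J1

open Cfsg
open Cfsg.Lib.H3.JankoOne (wa wb wc wordG_append)

/-- The group. -/
abbrev J := ↥Spor.J1

/-- Evaluation of a word at two elements. -/
def ev (A B : J) : List Bool → J
  | [] => 1
  | b :: w => (if b then B else A) * ev A B w

/-- Evaluation of a word at two packed matrices. -/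
def evP (A B : M7) : List Bool → M7
  | [] => one
  | b :: w => mul (if b then B else A) (evP A B w)

/-- The packed form of an element. -/
def encJ (g : J) : M7 := enc (g : GL (Fin 7) (ZMod 11))

theorem encJ_mul (g h : J) : encJ (g * h) = mul (encJ g) (encJ h) := by simp [encJ, enc_mul]

theorem encJ_one : encJ 1 = one := enc_one

theorem encJ_injective : Function.Injective encJ := fun _ _ h => Subtype.ext (enc_injective h)

theorem encJ_ev (A B : J) : ∀ w, encJ (ev A B w) = evP (encJ A) (encJ B) w
  | [] => encJ_one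
  | b :: w => by cases b <;> simp [ev, evP, encJ_mul, encJ_ev A B w]

theorem encJ_pow (g : J) (n : ℕ) : encJ (g ^ n) = pw (encJ g) n := by
  rw [encJ, SubmonoidClass.coe_pow, enc_pow]; rfl

theorem encJ_wordG (w : List Bool) : encJ (wordG w) = wordP w := enc_wordG w

theorem eq_of_beq {g h : J} (e : beq (encJ g) (encJ h) = true) : g = h := encJ_injective (beq_iff.mp e)

theorem map_ev (φ : J →* J) (A B : J) : ∀ w, φ (ev A B w) = ev (φ A) (φ B) w
  | [] => map_one φ
  | b :: w => by cases b <;> simp [ev, map_mul, map_ev φ A B w]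

/-- The base involution. -/
def eA : J := wordG wa

/-- The second involution. -/
def eB : J := wordG wb

/-- The eight elements of a Sylow 2-subgroup. -/
def eList (i : ℕ) : J := wordG ([[], wa, wb, wc, wa ++ wb, wa ++ wc, wb ++ wc, wa ++ (wb ++ wc)].getD i [])

/-- The packed form of the eight elements. -/
def eP (i : ℕ) : M7 := wordP ([[], wa, wb, wc, wa ++ wb, wa ++ wc, wb ++ wc, wa ++ (wb ++ wc)].getD i [])

theorem encJ_eList (i : ℕ) : encJ (eList i) = eP i := encJ_wordG _

/-- The products in the group of order eight, by bit patterns. -/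
def eMul (i j : ℕ) : ℕ :=
  [0, 1, 2, 4, 3, 5, 6, 7].getD
    (Nat.xor ([0, 1, 2, 4, 3, 5, 6, 7].getD i 0) ([0, 1, 2, 4, 3, 5, 6, 7].getD j 0)) 0

theorem e_closed : (List.range 8).all (fun i => (List.range 8).all fun j =>
    decide (eMul i j < 8) && beq (mul (eP i) (eP j)) (eP (eMul i j)) &&
      (i == j || !beq (eP i) (eP j))) = true := by decide +kernel

theorem eList_mul {i j : ℕ} (hi : i < 8) (hj : j < 8) :
    eMul i j < 8 ∧ eList i * eList j = eList (eMul i j) := by
  have h := List.all_eq_true.1 (List.all_eq_true.1 e_closed i (List.mem_range.2 hi)) j (List.mem_range.2 hj)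
  simp only [Bool.and_eq_true, decide_eq_true_eq] at h
  refine ⟨h.1.1, eq_of_beq ?_⟩
  rw [encJ_mul, encJ_eList, encJ_eList, encJ_eList]
  exact h.1.2

theorem eList_sq {i : ℕ} (hi : i < 8) : eList i * eList i = 1 := by
  have h : ∀ i ∈ List.range 8, eMul i i = 0 := by decide
  rw [(eList_mul hi hi).2, h i (List.mem_range.2 hi)]
  exact rfl

/-- A Sylow 2-subgroup. -/
def eight : Subgroup J where
  carrier := {g | ∃ i < 8, g = eList i}
  one_mem' := ⟨0, by norm_num, rfl⟩
  mul_mem' := by
    rintro _ _ ⟨i, hi, rfl⟩ ⟨j, hj, rfl⟩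
    exact ⟨_, (eList_mul hi hj).1, (eList_mul hi hj).2⟩
  inv_mem' := by
    rintro _ ⟨i, hi, rfl⟩
    exact ⟨i, hi, inv_eq_of_mul_eq_one_right (eList_sq hi)⟩

theorem eList_inj {i j : ℕ} (hi : i < 8) (hj : j < 8) (h : eList i = eList j) : i = j := by
  by_contra hne
  have hc := List.all_eq_true.1 (List.all_eq_true.1 e_closed i (List.mem_range.2 hi)) j (List.mem_range.2 hj)
  simp only [Bool.and_eq_true, Bool.or_eq_true, beq_iff_eq, Bool.not_eq_true'] at hc
  rcases hc.2 with e | e
  · exact hne e
  · rw [← encJ_eList, ← encJ_eList, h, beq_iff.mpr rfl] at e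
    exact Bool.noConfusion e

theorem card_eight : Nat.card eight = 8 := by
  rw [Nat.card_congr (Equiv.ofBijective (fun i : Fin 8 => (⟨eList i.val, i.val, i.isLt, rfl⟩ : eight))
    ⟨fun i j h => Fin.ext (eList_inj i.isLt j.isLt (congrArg Subtype.val h)),
      fun g => by obtain ⟨i, hi, he⟩ := g.2; exact ⟨⟨i, hi⟩, Subtype.ext he.symm⟩⟩).symm, Nat.card_fin]

theorem index_eight : eight.index = 21945 := by
  have h := eight.card_mul_index
  rw [card_eight, Cfsg.Lib.H3.JankoOne.card_J] at h
  omega

theorem conj_check : (List.range 7).all (fun i =>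
    beq (mul (wordP (conjWords.getD i [])) (wordP wa)) (mul (eP (i + 1)) (wordP (conjWords.getD i [])))) = true := by
  decide +kernel

/-- All involutions are conjugate to the base involution. -/
theorem exists_conj {t : J} (ht : t * t = 1) (h1 : t ≠ 1) : ∃ g : J, g * eA * g⁻¹ = t := by
  haveI : Fact (Nat.Prime 2) := ⟨Nat.prime_two⟩
  have hp : IsPGroup 2 eight := IsPGroup.of_card (n := 3) card_eight
  have hidx : ¬ 2 ∣ eight.index := by rw [index_eight]; decide
  set S : Sylow 2 J := hp.toSylow hidx
  have hord : orderOf t = 2 := orderOf_eq_prime (by rw [pow_two, ht]) h1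
  have hz : IsPGroup 2 (Subgroup.zpowers t) := IsPGroup.of_card (n := 1) (by rw [Nat.card_zpowers, hord]; rfl)
  obtain ⟨P, hP⟩ := hz.exists_le_sylow
  obtain ⟨g, hg⟩ := MulAction.exists_smul_eq J S P
  have htP : t ∈ (P : Subgroup J) := hP (Subgroup.mem_zpowers t)
  rw [← hg, Sylow.coe_subgroup_smul, Subgroup.mem_pointwise_smul_iff_inv_smul_mem] at htP
  obtain ⟨i, hi, he⟩ := (show (MulAut.conj g)⁻¹ • t ∈ eight from htP)
  have he' : t = g * eList i * g⁻¹ := by
    rw [← he]
    show t = g * (g⁻¹ * t * g⁻¹⁻¹) * g⁻¹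
    group
  have hi0 : i ≠ 0 := fun e => h1 (by rw [he', e, show eList 0 = 1 from rfl]; group)
  have h := List.all_eq_true.1 conj_check (i - 1) (List.mem_range.2 (by omega))
  rw [show i - 1 + 1 = i by omega] at h
  set c : J := wordG (conjWords.getD (i - 1) [])
  have hc : c * eA = eList i * c := eq_of_beq (by
    rw [encJ_mul, encJ_mul, encJ_eList, encJ_wordG, eA, encJ_wordG]; exact h)
  refine ⟨g * c, ?_⟩
  rw [he', show g * c * eA * (g * c)⁻¹ = g * (c * eA) * (g * c)⁻¹ by group, hc]
  group

theorem eA_order : eA * eA = 1 ∧ eA ≠ 1 :=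
  ⟨eList_sq (i := 1) (by norm_num), fun h => Nat.one_ne_zero (eList_inj (i := 1) (j := 0) (by norm_num) (by norm_num) h)⟩

theorem card_centralizer : Nat.card (Subgroup.centralizer ({eA} : Set J)) = 120 := by
  obtain ⟨t, ht, ⟨e⟩⟩ := Cfsg.Agent.S2131.result
  have ht1 : t ≠ 1 := fun h => by rw [h, orderOf_one] at ht; omega
  have ht2 : t * t = 1 := by rw [← pow_two, ← orderOf_dvd_iff_pow_eq_one, ht]
  obtain ⟨g, hg⟩ := exists_conj ht2 ht1
  have hc : Nat.card (Subgroup.centralizer ({t} : Set J)) = 120 := by
    rw [Nat.card_congr e.toEquiv, Nat.card_prod, Nat.card_congr Multiplicative.toAdd, Nat.card_zmod,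
      nat_card_alternatingGroup, Nat.card_eq_fintype_card, Fintype.card_fin]
    rfl
  rw [← hc]
  refine Nat.card_congr ((MulAut.conj g).toEquiv.subtypeEquiv fun x => ?_)
  show x ∈ Subgroup.centralizer {eA} ↔ g * x * g⁻¹ ∈ Subgroup.centralizer {t}
  rw [Subgroup.mem_centralizer_singleton_iff, Subgroup.mem_centralizer_singleton_iff, ← hg]
  constructor
  · intro h
    calc g * x * g⁻¹ * (g * eA * g⁻¹) = g * (x * eA) * g⁻¹ := by group
      _ = g * (eA * x) * g⁻¹ := by rw [h]
      _ = _ := by group
  · intro h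
    calc x * eA = g⁻¹ * (g * x * g⁻¹ * (g * eA * g⁻¹)) * g := by group
      _ = g⁻¹ * (g * eA * g⁻¹ * (g * x * g⁻¹)) * g := by rw [h]
      _ = _ := by group

/-- An element of the centraliser of the base involution. -/
noncomputable def cen (i : ℕ) : J := ev (wordG wordU) (wordG wordV) (centWords.getD i [])

/-- Its packed form. -/
noncomputable def cenP (i : ℕ) : M7 := evP (wordP wordU) (wordP wordV) (centWords.getD i [])

theorem encJ_cen (i : ℕ) : encJ (cen i) = cenP i := by
  rw [cen, encJ_ev, encJ_wordG, encJ_wordG]; rfl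

/-- Pairwise distinct packed matrices. -/
def distinctB : List M7 → Bool
  | [] => true
  | M :: l => l.all (fun N => !beq M N) && distinctB l

theorem nodup_of_distinctB : ∀ {l : List M7}, distinctB l = true → l.Nodup
  | [], _ => List.nodup_nil
  | M :: l, h => by
      rw [distinctB, Bool.and_eq_true] at h
      refine List.nodup_cons.2 ⟨fun hm => ?_, nodup_of_distinctB h.2⟩
      have := List.all_eq_true.1 h.1 M hm
      rw [beq_iff.mpr rfl] at this
      exact Bool.noConfusion this

theorem cent_comm : (List.range 120).all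
    (fun i => beq (mul (cenP i) (wordP wa)) (mul (wordP wa) (cenP i))) = true := by decide +kernel

theorem cent_distinct : distinctB ((List.range 120).map cenP) = true := by decide +kernel

theorem cen_comm {i : ℕ} (hi : i < 120) : cen i * eA = eA * cen i := by
  have h := List.all_eq_true.1 cent_comm i (List.mem_range.2 hi)
  exact eq_of_beq (by rw [encJ_mul, encJ_mul, encJ_cen, eA, encJ_wordG]; exact h)

theorem exists_cen {g : J} (h : g * eA = eA * g) : ∃ i < 120, g = cen i := by
  let f : Fin 120 → Subgroup.centralizer ({eA} : Set J) := fun i =>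
    ⟨cen i.val, Subgroup.mem_centralizer_singleton_iff.2 (cen_comm i.isLt)⟩
  have hinj : Function.Injective f := by
    intro i j hij
    have e : cenP i.val = cenP j.val := by
      rw [← encJ_cen, ← encJ_cen]; exact congrArg (fun x : Subgroup.centralizer ({eA} : Set J) => encJ (x : J)) hij
    have hnd := nodup_of_distinctB cent_distinct
    exact Fin.ext (List.inj_on_of_nodup_map hnd (List.mem_range.2 i.isLt) (List.mem_range.2 j.isLt) e)
  obtain ⟨i, hi⟩ := ((Nat.bijective_iff_injective_and_card f).2
    ⟨hinj, by rw [Nat.card_fin, card_centralizer]⟩).2 ⟨g, Subgroup.mem_centralizer_singleton_iff.2 h⟩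
  exact ⟨i.val, i.isLt, (congrArg Subtype.val hi).symm⟩

/-- The normalisation of an involution of the centraliser. -/
noncomputable def redOK (i : ℕ) : Bool :=
  let r := redTab.getD i (0, 0, true)
  let C := cenP i
  !beq (mul C C) one || beq C (wordP wa) || beq C one ||
    (decide (r.2.1 < 120) && beq (mul (cenP r.2.1) C)
      (mul (if r.2.2 then wordP wb else mul (wordP wa) (wordP wb)) (cenP r.2.1)))

theorem red_check : (List.range 120).all redOK = true := by decide +kernel

/-- The second generator. -/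
noncomputable def eS : J := wordG wordS

/-- The candidates for the image of the second generator. -/
noncomputable def candOK (n : ℕ) : Bool :=
  let r := candTab.getD n (0, 0)
  let S' := mul (wordP (if n < 120 then wordS else wordS2)) (cenP (n % 120))
  if r.1 = 0 then decide (r.2 < 120) && beq (mul (cenP r.2) (wordP wordS)) (mul S' (cenP r.2))
  else
    let w := relTab.getD (r.1 - 1) ([], 0)
    beq (pw (evP (wordP wa) (wordP wordS) w.1) w.2) one != beq (pw (evP (wordP wa) S' w.1) w.2) one

theorem cand_check : (List.range 240).all candOK = true := by decide +kernel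

theorem move_check : (beq (mul (wordP wordS) (wordP wa)) (mul (wordP wb) (wordP wordS)) &&
    beq (mul (wordP wordS2) (wordP wa)) (mul (mul (wordP wa) (wordP wb)) (wordP wordS2)) &&
    beq (evP (wordP wa) (wordP wordS) genWordX) (enc Spor.jankoX) &&
    beq (evP (wordP wa) (wordP wordS) genWordY) (enc Spor.jankoY)) = true := by decide +kernel

/-- The outer automorphism group is trivial. -/
theorem mem_inn (φ : MulAut J) : φ ∈ Inn J := by
  have hm := move_check
  simp only [Bool.and_eq_true] at hm
  obtain ⟨⟨⟨m1, m2⟩, mX⟩, mY⟩ := hm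
  have hS1 : eS * eA = eB * eS := eq_of_beq (by
    rw [encJ_mul, encJ_mul, eS, eA, eB, encJ_wordG, encJ_wordG, encJ_wordG]; exact m1)
  have hS2 : wordG wordS2 * eA = eA * eB * wordG wordS2 := eq_of_beq (by
    rw [encJ_mul, encJ_mul, encJ_mul, eA, eB, encJ_wordG, encJ_wordG, encJ_wordG]; exact m2)
  have step : ∀ (ψ : MulAut J) (g : J), ψ ∈ Inn J ↔ MulAut.conj g * ψ ∈ Inn J := fun ψ g =>
    ((Inn J).mul_mem_cancel_left ⟨g, rfl⟩).symm
  -- fix the first involution
  obtain ⟨g₁, hg₁⟩ := exists_conj (t := φ eA) (by rw [← map_mul, eA_order.1, map_one])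
    (fun h => eA_order.2 (φ.injective (h.trans (map_one φ).symm)))
  rw [step φ g₁⁻¹]
  generalize hψ : MulAut.conj g₁⁻¹ * φ = ψ
  have hA : ψ eA = eA := by
    rw [← hψ, MulAut.mul_apply, MulAut.conj_apply, ← hg₁]; group
  clear hψ hg₁
  -- normalise the image of the second involution
  have hB2 : eB * eB = 1 := eList_sq (i := 2) (by norm_num)
  have hAB : eA * eB = eB * eA := by
    have h1 := (eList_mul (i := 1) (j := 2) (by norm_num) (by norm_num)).2
    have h2 := (eList_mul (i := 2) (j := 1) (by norm_num) (by norm_num)).2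
    exact h1.trans (h2.trans rfl).symm
  have hbA : eB ≠ eA := fun h => by
    have := eList_inj (i := 2) (j := 1) (by norm_num) (by norm_num) h
    omega
  have hb1 : eB ≠ 1 := fun h => by
    have := eList_inj (i := 2) (j := 0) (by norm_num) (by norm_num) h
    omega
  obtain ⟨i, hi, hbi⟩ := exists_cen (g := ψ eB)
    (by conv_lhs => rw [← hA]
        conv_rhs => rw [← hA]
        rw [← map_mul, ← map_mul, hAB])
  have hr := List.all_eq_true.1 red_check i (List.mem_range.2 hi)
  simp only [redOK, Bool.or_eq_true, Bool.not_eq_true', Bool.and_eq_true, decide_eq_true_eq] at hr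
  have n1 : beq (mul (cenP i) (cenP i)) one = true := by
    rw [← encJ_cen, ← encJ_mul, ← hbi, ← map_mul, hB2, map_one, encJ_one]
    exact beq_iff.mpr rfl
  rcases hr with ((e | e) | e) | ⟨hj, e⟩
  · rw [n1] at e; exact Bool.noConfusion e
  · have : cen i = eA := eq_of_beq (by rw [encJ_cen, eA, encJ_wordG]; exact e)
    exact absurd (ψ.injective (by rw [hbi, this, hA])) hbA
  · have : cen i = 1 := eq_of_beq (by rw [encJ_cen, encJ_one]; exact e)
    exact absurd (ψ.injective (by rw [hbi, this, map_one])) hb1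
  generalize (redTab.getD i (0, 0, true)).2.1 = j at hj e
  generalize (redTab.getD i (0, 0, true)).2.2 = k at e
  rw [step ψ (cen j)]
  generalize hχ : MulAut.conj (cen j) * ψ = χ
  have hA' : χ eA = eA := by
    rw [← hχ, MulAut.mul_apply, MulAut.conj_apply, hA, cen_comm hj, mul_inv_cancel_right]
  have hB' : χ eB = if k then eB else eA * eB := by
    have h : cen j * cen i = (if k then eB else eA * eB) * cen j := eq_of_beq (by
      rw [encJ_mul, encJ_mul, encJ_cen, encJ_cen]
      cases k <;> simp only [Bool.false_eq_true, if_false, if_true] at e ⊢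
      · rw [encJ_mul, eA, eB, encJ_wordG, encJ_wordG]; exact e
      · rw [eB, encJ_wordG]; exact e)
    rw [← hχ, MulAut.mul_apply, MulAut.conj_apply, hbi, h, mul_inv_cancel_right]
  clear hχ
  -- the image of the second generator
  have hS : χ eS * eA = (if k then eB else eA * eB) * χ eS := by
    have := congrArg χ hS1
    rwa [map_mul, map_mul, hA', hB'] at this
  obtain ⟨n, hn, hSn⟩ : ∃ n < 240,
      χ eS = wordG (if n < 120 then wordS else wordS2) * cen (n % 120) := by
    cases k
    · simp only [Bool.false_eq_true, if_false] at hS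
      have hc : (wordG wordS2)⁻¹ * χ eS * eA = eA * ((wordG wordS2)⁻¹ * χ eS) := by
        calc (wordG wordS2)⁻¹ * χ eS * eA = (wordG wordS2)⁻¹ * (eA * eB * χ eS) := by rw [mul_assoc, hS]
          _ = (wordG wordS2)⁻¹ * (eA * eB * wordG wordS2) * ((wordG wordS2)⁻¹ * χ eS) := by group
          _ = (wordG wordS2)⁻¹ * (wordG wordS2 * eA) * ((wordG wordS2)⁻¹ * χ eS) := by rw [hS2]
          _ = _ := by group
      obtain ⟨l, hl, hl'⟩ := exists_cen hc
      refine ⟨120 + l, by omega, ?_⟩
      rw [if_neg (by omega), show (120 + l) % 120 = l by omega, ← hl', mul_inv_cancel_left]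
    · simp only [if_true] at hS
      have hc : eS⁻¹ * χ eS * eA = eA * (eS⁻¹ * χ eS) := by
        calc eS⁻¹ * χ eS * eA = eS⁻¹ * (eB * χ eS) := by rw [mul_assoc, hS]
          _ = eS⁻¹ * (eB * eS) * (eS⁻¹ * χ eS) := by group
          _ = eS⁻¹ * (eS * eA) * (eS⁻¹ * χ eS) := by rw [hS1]
          _ = _ := by group
      obtain ⟨l, hl, hl'⟩ := exists_cen hc
      refine ⟨l, by omega, ?_⟩
      rw [if_pos hl, Nat.mod_eq_of_lt hl, ← hl', show wordG wordS = eS from rfl, mul_inv_cancel_left]
  have hS' : encJ (χ eS) = mul (wordP (if n < 120 then wordS else wordS2)) (cenP (n % 120)) := by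
    rw [hSn, encJ_mul, encJ_wordG, encJ_cen]
  have hc := List.all_eq_true.1 cand_check n (List.mem_range.2 hn)
  simp only [candOK] at hc
  split at hc
  · rw [Bool.and_eq_true, decide_eq_true_eq] at hc
    obtain ⟨hl, hl'⟩ := hc
    generalize (candTab.getD n (0, 0)).2 = l at hl hl'
    have hconj : cen l * eS = χ eS * cen l := eq_of_beq (by
      rw [encJ_mul, encJ_mul, hS', encJ_cen, eS, encJ_wordG]; exact hl')
    rw [step χ (cen l)⁻¹]
    have hid : MulAut.conj (cen l)⁻¹ * χ = 1 := by
      set f : MulAut J := MulAut.conj (cen l)⁻¹ * χ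
      have fA : f.toMonoidHom eA = eA := by
        show (cen l)⁻¹ * χ eA * ((cen l)⁻¹)⁻¹ = eA
        rw [hA', inv_inv, mul_assoc, ← cen_comm hl, inv_mul_cancel_left]
      have fS : f.toMonoidHom eS = eS := by
        show (cen l)⁻¹ * χ eS * ((cen l)⁻¹)⁻¹ = eS
        rw [inv_inv, mul_assoc, ← hconj, inv_mul_cancel_left]
      have fw : ∀ w, f.toMonoidHom (ev eA eS w) = ev eA eS w := fun w => by rw [map_ev, fA, fS]
      refine MulEquiv.ext fun x => ?_
      obtain ⟨x, hx⟩ := x
      induction hx using Subgroup.closure_induction with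
      | mem y hy =>
        rcases hy with rfl | rfl
        · have : (⟨Spor.jankoX, Subgroup.subset_closure (Or.inl rfl)⟩ : J) = ev eA eS genWordX := eq_of_beq (by
            rw [encJ_ev, eA, eS, encJ_wordG, encJ_wordG]
            exact beq_iff.mpr (beq_iff.mp mX).symm)
          rw [this]; exact fw _
        · have : (⟨Spor.jankoY, Subgroup.subset_closure (Or.inr rfl)⟩ : J) = ev eA eS genWordY := eq_of_beq (by
            rw [encJ_ev, eA, eS, encJ_wordG, encJ_wordG]
            exact beq_iff.mpr (beq_iff.mp mY).symm)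
          rw [this]; exact fw _
      | one => exact map_one f
      | mul y z hy hz ihy ihz =>
        show f ((⟨y, hy⟩ : J) * ⟨z, hz⟩) = (⟨y, hy⟩ : J) * ⟨z, hz⟩
        rw [map_mul]
        exact congrArg₂ (· * ·) ihy ihz
      | inv y hy ihy =>
        show f ((⟨y, hy⟩ : J)⁻¹) = (⟨y, hy⟩ : J)⁻¹
        rw [map_inv]
        exact congrArg (·⁻¹) ihy
    rw [hid]
    exact one_mem _
  · exfalso
    rw [bne_iff_ne] at hc
    apply hc
    generalize relTab.getD ((candTab.getD n (0, 0)).1 - 1) ([], 0) = w
    rw [← hS', show wordP wa = encJ eA from (encJ_wordG _).symm,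
      show wordP wordS = encJ eS from (encJ_wordG _).symm, ← encJ_ev, ← encJ_ev, ← encJ_pow, ← encJ_pow,
      Bool.eq_iff_iff, beq_iff, beq_iff, ← encJ_one, encJ_injective.eq_iff, encJ_injective.eq_iff]
    have hev : χ (ev eA eS w.1) = ev eA (χ eS) w.1 := by
      have := map_ev χ.toMonoidHom eA eS w.1
      rwa [show χ.toMonoidHom eA = eA from hA'] at this
    rw [← hev, ← map_pow]
    exact (map_eq_one_iff χ χ.injective).symm

end Cfsg.Lib.J1
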