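import Mathlib.Init

set_option autoImplicit false

/-!
Certificates for the automorphisms of the first Janko group.
-/

namespace Cfsg.Lib.J1

/-- A word centralising the base involution. -/
noncomputable def wordU : List Bool := [true, false, true, true, true, true, false]

/-- A word centralising the base involution. -/
noncomputable def wordV : List Bool := [false, true, false, true, true, false, true, false, true, false, true, true]

/-- A word moving the base involution. -/
noncomputable def wordS : List Bool := [false, true, true, false, true, false, true, false, true, false, false]

/-- A word moving the base involution. -/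
noncomputable def wordS2 : List Bool := [false]

/-- The centraliser of the base involution as words in two elements. -/
noncomputable def centWords : List (List Bool) := [
  [],
  [false],
  [true],
  [true, false],
  [false, true],
  [true, true],
  [false, true, false],
  [true, true, false],
  [true, false, true],
  [false, true, true],
  [true, true, true],
  [true, false, true, false],
  [false, true, true, false],
  [true, true, true, false],
  [false, true, false, true],
  [true, true, false, true],
  [true, false, true, true],
  [false, true, true, true],
  [true, true, true, true],
  [false, true, false, true, false],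
  [true, true, false, true, false],
  [true, false, true, true, false],
  [false, true, true, true, false],
  [true, true, true, true, false],
  [true, false, true, false, true],
  [false, true, true, false, true],
  [true, true, true, false, true],
  [false, true, false, true, true],
  [true, true, false, true, true],
  [true, false, true, true, true],
  [false, true, true, true, true],
  [true, false, true, false, true, false],
  [false, true, true, false, true, false],
  [true, true, true, false, true, false],
  [false, true, false, true, true, false],
  [true, true, false, true, true, false],
  [true, false, true, true, true, false],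
  [false, true, true, true, true, false],
  [true, true, false, true, false, true],
  [false, true, true, true, false, true],
  [true, true, true, true, false, true],
  [true, false, true, false, true, true],
  [false, true, true, false, true, true],
  [true, true, true, false, true, true],
  [false, true, false, true, true, true],
  [true, true, false, true, true, true],
  [true, false, true, true, true, true],
  [true, true, false, true, false, true, false],
  [false, true, true, true, false, true, false],
  [true, true, true, true, false, true, false],
  [true, false, true, false, true, true, false],
  [false, true, true, false, true, true, false],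
  [true, true, true, false, true, true, false],
  [false, true, false, true, true, true, false],
  [true, true, false, true, true, true, false],
  [true, false, true, true, true, true, false],
  [true, true, true, false, true, false, true],
  [true, false, true, true, true, false, true],
  [false, true, true, true, true, false, true],
  [false, true, true, true, false, true, true],
  [true, true, true, true, false, true, true],
  [true, false, true, false, true, true, true],
  [false, true, true, false, true, true, true],
  [true, true, true, false, true, true, true],
  [false, true, false, true, true, true, true],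
  [true, true, false, true, true, true, true],
  [true, true, true, false, true, false, true, false],
  [true, false, true, true, true, false, true, false],
  [false, true, true, true, true, false, true, false],
  [false, true, true, true, false, true, true, false],
  [true, true, true, true, false, true, true, false],
  [true, false, true, false, true, true, true, false],
  [false, true, true, false, true, true, true, false],
  [true, true, true, false, true, true, true, false],
  [false, true, false, true, true, true, true, false],
  [true, true, false, true, true, true, true, false],
  [true, true, true, true, false, true, false, true],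
  [false, true, false, true, true, true, false, true],
  [true, true, false, true, true, true, false, true],
  [true, false, true, true, true, true, false, true],
  [true, false, true, true, true, false, true, true],
  [false, true, true, true, true, false, true, true],
  [false, true, true, true, false, true, true, true],
  [true, false, true, false, true, true, true, true],
  [false, true, true, false, true, true, true, true],
  [true, true, true, true, false, true, false, true, false],
  [false, true, false, true, true, true, false, true, false],
  [true, true, false, true, true, true, false, true, false],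
  [true, false, true, true, true, true, false, true, false],
  [true, false, true, true, true, false, true, true, false],
  [false, true, true, true, true, false, true, true, false],
  [false, true, true, true, false, true, true, true, false],
  [true, false, true, false, true, true, true, true, false],
  [false, true, true, false, true, true, true, true, false],
  [false, true, true, false, true, true, true, false, true],
  [true, true, true, false, true, true, true, false, true],
  [false, true, false, true, true, true, true, false, true],
  [true, true, false, true, true, true, true, false, true],
  [false, true, false, true, true, true, false, true, true],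
  [true, true, false, true, true, true, false, true, true],
  [true, false, true, true, true, true, false, true, true],
  [true, false, true, true, true, false, true, true, true],
  [false, true, true, false, true, true, true, false, true, false],
  [true, true, true, false, true, true, true, false, true, false],
  [false, true, false, true, true, true, true, false, true, false],
  [true, true, false, true, true, true, true, false, true, false],
  [false, true, false, true, true, true, false, true, true, false],
  [true, true, false, true, true, true, false, true, true, false],
  [true, false, true, true, true, true, false, true, true, false],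
  [true, false, true, true, true, false, true, true, true, false],
  [false, true, true, true, false, true, true, true, false, true],
  [false, true, true, false, true, true, true, true, false, true],
  [false, true, false, true, true, true, true, false, true, true],
  [false, true, false, true, true, true, false, true, true, true],
  [false, true, true, true, false, true, true, true, false, true, false],
  [false, true, true, false, true, true, true, true, false, true, false],
  [false, true, false, true, true, true, true, false, true, true, false],
  [false, true, false, true, true, true, false, true, true, true, false],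
  [true, false, true, true, true, false, true, true, true, false, true],
  [true, false, true, true, true, false, true, true, true, false, true, false]]

/-- Conjugators to the seven involutions of the four-group of order eight. -/
noncomputable def conjWords : List (List Bool) := [
  [],
  [false, false, false],
  [false, false, false, false],
  [false],
  [false, false, false, false, false],
  [false, false, false, false, false, false],
  [false, false]]

/-- Normalisation of the involutions of the centraliser. -/
noncomputable def redTab : List (Nat × Nat × Bool) := [
  (0, 0, true),
  (1, 0, true),
  (0, 0, true),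
  (0, 0, true),
  (0, 0, true),
  (0, 0, true),
  (0, 0, true),
  (0, 0, true),
  (0, 0, true),
  (0, 0, true),
  (0, 0, true),
  (0, 0, true),
  (0, 0, true),
  (0, 0, true),
  (0, 0, true),
  (0, 0, true),
  (0, 0, true),
  (0, 0, true),
  (0, 0, true),
  (0, 0, true),
  (1, 11, false),
  (1, 3, false),
  (0, 0, true),
  (0, 0, true),
  (1, 0, false),
  (1, 8, false),
  (0, 0, true),
  (1, 2, false),
  (0, 0, true),
  (0, 0, true),
  (0, 0, true),
  (0, 0, true),
  (0, 0, true),
  (0, 0, true),
  (0, 0, true),
  (0, 0, true),
  (0, 0, true),
  (0, 0, true),
  (0, 0, true),
  (0, 0, true),
  (1, 2, true),
  (0, 0, true),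
  (0, 0, true),
  (1, 5, true),
  (0, 0, true),
  (1, 10, true),
  (1, 11, true),
  (0, 0, true),
  (0, 0, true),
  (0, 0, true),
  (0, 0, true),
  (0, 0, true),
  (0, 0, true),
  (0, 0, true),
  (0, 0, true),
  (0, 0, true),
  (0, 0, true),
  (0, 0, true),
  (0, 0, true),
  (0, 0, true),
  (0, 0, true),
  (0, 0, true),
  (0, 0, true),
  (0, 0, true),
  (0, 0, true),
  (0, 0, true),
  (0, 0, true),
  (0, 0, true),
  (1, 3, true),
  (1, 7, true),
  (0, 0, true),
  (0, 0, true),
  (1, 13, true),
  (0, 0, true),
  (1, 8, true),
  (0, 0, true),
  (0, 0, true),
  (0, 0, true),
  (0, 0, true),
  (0, 0, true),
  (0, 0, true),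
  (0, 0, true),
  (0, 0, true),
  (0, 0, true),
  (0, 0, true),
  (0, 0, true),
  (0, 0, true),
  (1, 20, true),
  (0, 0, true),
  (1, 21, true),
  (0, 0, true),
  (0, 0, true),
  (0, 0, true),
  (0, 0, true),
  (1, 15, true),
  (1, 16, false),
  (0, 0, true),
  (1, 5, false),
  (1, 16, true),
  (1, 29, false),
  (1, 10, false),
  (1, 20, false),
  (0, 0, true),
  (0, 0, true),
  (0, 0, true),
  (0, 0, true),
  (0, 0, true),
  (1, 26, true),
  (0, 0, true),
  (0, 0, true),
  (0, 0, true),
  (0, 0, true),
  (0, 0, true),
  (0, 0, true),
  (1, 21, false),
  (1, 7, false),
  (1, 13, false),
  (1, 15, false),
  (1, 29, true),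
  (1, 26, false)]

/-- Elimination of the images of the second generator. -/
noncomputable def candTab : List (Nat × Nat) := [
  (0, 0),
  (1, 0),
  (1, 0),
  (1, 0),
  (1, 0),
  (1, 0),
  (2, 0),
  (0, 118),
  (3, 0),
  (4, 0),
  (1, 0),
  (1, 0),
  (5, 0),
  (1, 0),
  (1, 0),
  (1, 0),
  (1, 0),
  (3, 0),
  (1, 0),
  (1, 0),
  (3, 0),
  (1, 0),
  (1, 0),
  (1, 0),
  (0, 1),
  (2, 0),
  (2, 0),
  (6, 0),
  (1, 0),
  (1, 0),
  (3, 0),
  (1, 0),
  (1, 0),
  (1, 0),
  (6, 0),
  (3, 0),
  (1, 0),
  (1, 0),
  (1, 0),
  (1, 0),
  (6, 0),
  (2, 0),
  (0, 99),
  (2, 0),
  (1, 0),
  (5, 0),
  (1, 0),
  (1, 0),
  (3, 0),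
  (6, 0),
  (1, 0),
  (1, 0),
  (1, 0),
  (1, 0),
  (4, 0),
  (3, 0),
  (1, 0),
  (4, 0),
  (1, 0),
  (1, 0),
  (1, 0),
  (5, 0),
  (1, 0),
  (1, 0),
  (2, 0),
  (2, 0),
  (0, 119),
  (4, 0),
  (1, 0),
  (1, 0),
  (1, 0),
  (4, 0),
  (3, 0),
  (1, 0),
  (1, 0),
  (1, 0),
  (1, 0),
  (1, 0),
  (3, 0),
  (3, 0),
  (1, 0),
  (1, 0),
  (4, 0),
  (1, 0),
  (1, 0),
  (1, 0),
  (1, 0),
  (1, 0),
  (1, 0),
  (1, 0),
  (1, 0),
  (4, 0),
  (3, 0),
  (3, 0),
  (1, 0),
  (1, 0),
  (1, 0),
  (1, 0),
  (0, 31),
  (3, 0),
  (4, 0),
  (3, 0),
  (1, 0),
  (0, 24),
  (0, 107),
  (2, 0),
  (1, 0),
  (1, 0),
  (5, 0),
  (1, 0),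
  (1, 0),
  (1, 0),
  (3, 0),
  (1, 0),
  (1, 0),
  (1, 0),
  (1, 0),
  (1, 0),
  (1, 0),
  (3, 0),
  (1, 0),
  (1, 0),
  (2, 0),
  (2, 0),
  (1, 0),
  (7, 0),
  (1, 0),
  (7, 0),
  (2, 0),
  (1, 0),
  (3, 0),
  (2, 0),
  (1, 0),
  (3, 0),
  (1, 0),
  (1, 0),
  (1, 0),
  (1, 0),
  (3, 0),
  (1, 0),
  (1, 0),
  (1, 0),
  (1, 0),
  (3, 0),
  (1, 0),
  (1, 0),
  (4, 0),
  (1, 0),
  (1, 0),
  (6, 0),
  (1, 0),
  (1, 0),
  (1, 0),
  (4, 0),
  (1, 0),
  (1, 0),
  (6, 0),
  (1, 0),
  (1, 0),
  (4, 0),
  (1, 0),
  (3, 0),
  (1, 0),
  (3, 0),
  (4, 0),
  (7, 0),
  (1, 0),
  (1, 0),
  (4, 0),
  (1, 0),
  (3, 0),
  (1, 0),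
  (3, 0),
  (4, 0),
  (7, 0),
  (1, 0),
  (1, 0),
  (1, 0),
  (1, 0),
  (1, 0),
  (4, 0),
  (3, 0),
  (1, 0),
  (1, 0),
  (1, 0),
  (5, 0),
  (1, 0),
  (1, 0),
  (1, 0),
  (1, 0),
  (4, 0),
  (3, 0),
  (1, 0),
  (1, 0),
  (1, 0),
  (5, 0),
  (1, 0),
  (1, 0),
  (2, 0),
  (1, 0),
  (1, 0),
  (6, 0),
  (1, 0),
  (7, 0),
  (5, 0),
  (1, 0),
  (1, 0),
  (2, 0),
  (1, 0),
  (1, 0),
  (6, 0),
  (1, 0),
  (7, 0),
  (5, 0),
  (1, 0),
  (1, 0),
  (1, 0),
  (1, 0),
  (3, 0),
  (1, 0),
  (1, 0),
  (1, 0),
  (1, 0),
  (1, 0),
  (1, 0),
  (1, 0),
  (3, 0),
  (1, 0),
  (1, 0),
  (1, 0),
  (2, 0),
  (7, 0),
  (3, 0),
  (3, 0),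
  (2, 0),
  (7, 0),
  (3, 0),
  (3, 0),
  (1, 0),
  (1, 0)]

/-- Separating words with exponents. -/
noncomputable def relTab : List (List Bool × Nat) := [
  ([true], 6),
  ([true], 5),
  ([false, true], 10),
  ([true], 3),
  ([false, true], 3),
  ([false, true], 6),
  ([true, true, true, false, true, true, false, true, false, true, false], 11)]

/-- The first generator as a word. -/
noncomputable def genWordX : List Bool := [false, true, true, true, true, false, true, true, true, false, true, false, true, false, true, true, true, false, true, true, false, true, true, true, false, true, true]

/-- The second generator as a word. -/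
noncomputable def genWordY : List Bool := [false, true, false, true, true, false, true, true, false, true, true, true, true, false, true, false, true, true]

end Cfsg.Lib.J1
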