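import Mathlib

/-!
# Packed 7 × 7 matrices over the integers modulo 11, for kernel computations

A row is one natural number with seven digits in base `2 ^ 16`.
-/

set_option autoImplicit false

namespace Cfsg.Lib.J1

/-- Pack seven digits. -/
def pack (v : Fin 7 → ℕ) : ℕ :=
  v 0 + 65536 * (v 1 + 65536 * (v 2 + 65536 * (v 3 + 65536 * (v 4 + 65536 * (v 5 + 65536 * v 6)))))

/-- The `j`-th digit. -/
def digit (n j : ℕ) : ℕ := Nat.land (Nat.shiftRight n (Nat.mul 16 j)) 65535

/-- Reduce each digit modulo 11. -/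
def red (n : ℕ) : ℕ :=
  Nat.add (Nat.mod (digit n 0) 11) (Nat.mul 65536 (Nat.add (Nat.mod (digit n 1) 11)
    (Nat.mul 65536 (Nat.add (Nat.mod (digit n 2) 11) (Nat.mul 65536 (Nat.add (Nat.mod (digit n 3) 11)
    (Nat.mul 65536 (Nat.add (Nat.mod (digit n 4) 11) (Nat.mul 65536 (Nat.add (Nat.mod (digit n 5) 11)
    (Nat.mul 65536 (Nat.mod (digit n 6) 11))))))))))))

/-- A packed matrix: seven packed rows. -/
structure M7 where
  r0 : ℕ
  r1 : ℕ
  r2 : ℕ
  r3 : ℕ
  r4 : ℕ
  r5 : ℕ
  r6 : ℕ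

/-- A packed row times a packed matrix. -/
def comb (a : ℕ) (N : M7) : ℕ :=
  red (Nat.add (Nat.mul (digit a 0) N.r0) (Nat.add (Nat.mul (digit a 1) N.r1)
    (Nat.add (Nat.mul (digit a 2) N.r2) (Nat.add (Nat.mul (digit a 3) N.r3)
    (Nat.add (Nat.mul (digit a 4) N.r4) (Nat.add (Nat.mul (digit a 5) N.r5)
      (Nat.mul (digit a 6) N.r6)))))))

/-- The product of packed matrices. -/
def mul (M N : M7) : M7 :=
  ⟨comb M.r0 N, comb M.r1 N, comb M.r2 N, comb M.r3 N, comb M.r4 N, comb M.r5 N, comb M.r6 N⟩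

/-- Boolean equality of packed matrices. -/
def beq (M N : M7) : Bool :=
  Nat.beq M.r0 N.r0 && (Nat.beq M.r1 N.r1 && (Nat.beq M.r2 N.r2 && (Nat.beq M.r3 N.r3 &&
    (Nat.beq M.r4 N.r4 && (Nat.beq M.r5 N.r5 && Nat.beq M.r6 N.r6)))))

theorem beq_iff {M N : M7} : beq M N = true ↔ M = N := by
  cases M; cases N
  simp [beq, Nat.beq_eq]

theorem digit_zero {a r : ℕ} (ha : a < 65536) : digit (a + 65536 * r) 0 = a := by
  show (a + 65536 * r) >>> (16 * 0) &&& (2 ^ 16 - 1) = a
  rw [Nat.and_two_pow_sub_one_eq_mod, Nat.mul_zero, Nat.shiftRight_zero]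
  omega

theorem digit_succ {a r : ℕ} (ha : a < 65536) (j : ℕ) :
    digit (a + 65536 * r) (j + 1) = digit r j := by
  show (a + 65536 * r) >>> (16 * (j + 1)) &&& 65535 = r >>> (16 * j) &&& 65535
  rw [show 16 * (j + 1) = 16 + 16 * j by ring, Nat.shiftRight_add]
  congr 2
  rw [Nat.shiftRight_eq_div_pow]
  omega

theorem digit_last {a : ℕ} (ha : a < 65536) : digit a 0 = a := by
  simpa using digit_zero (r := 0) ha

theorem digit_pack (v : Fin 7 → ℕ) (hv : ∀ j, v j < 65536) (j : Fin 7) :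
    digit (pack v) j = v j := by
  fin_cases j <;> simp [pack, digit_zero, digit_succ, digit_last, hv]

/-- The packed form of a matrix. -/
def encM (A : Matrix (Fin 7) (Fin 7) (ZMod 11)) : M7 :=
  ⟨pack fun j => (A 0 j).val, pack fun j => (A 1 j).val, pack fun j => (A 2 j).val,
    pack fun j => (A 3 j).val, pack fun j => (A 4 j).val, pack fun j => (A 5 j).val,
    pack fun j => (A 6 j).val⟩

/-- The row selected by an index. -/
def M7.row (M : M7) (i : Fin 7) : ℕ :=
  ![M.r0, M.r1, M.r2, M.r3, M.r4, M.r5, M.r6] i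

theorem row_encM (A : Matrix (Fin 7) (Fin 7) (ZMod 11)) (i : Fin 7) :
    (encM A).row i = pack fun j => (A i j).val := by
  fin_cases i <;> rfl

theorem encM_injective : Function.Injective encM := by
  intro A B h
  ext i j
  have h1 := row_encM A i
  rw [h, row_encM] at h1
  have hb : ∀ (C : Matrix (Fin 7) (Fin 7) (ZMod 11)) (k : Fin 7), (C i k).val < 65536 := fun C k =>
    (ZMod.val_lt _).trans (by norm_num)
  have := congrArg (fun n => digit n j) h1
  simp only [digit_pack _ (hb B), digit_pack _ (hb A)] at this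
  exact (ZMod.val_injective 11 this).symm

theorem comb_eq (a : ℕ) (N : M7) (a' : Fin 7 → ℕ) (ha : ∀ k : Fin 7, digit a k = a' k)
    (w : Fin 7 → ℕ) (hw : ∀ j, w j < 65536)
    (hsum : a' 0 * N.r0 + (a' 1 * N.r1 + (a' 2 * N.r2 + (a' 3 * N.r3 + (a' 4 * N.r4 +
      (a' 5 * N.r5 + a' 6 * N.r6))))) = pack w) :
    comb a N = pack fun j => w j % 11 := by
  have hd : ∀ k : Fin 7, digit (pack w) k = w k := digit_pack _ hw
  have h0 : digit a 0 = a' 0 := ha 0
  have h1 : digit a 1 = a' 1 := ha 1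
  have h2 : digit a 2 = a' 2 := ha 2
  have h3 : digit a 3 = a' 3 := ha 3
  have h4 : digit a 4 = a' 4 := ha 4
  have h5 : digit a 5 = a' 5 := ha 5
  have h6 : digit a 6 = a' 6 := ha 6
  have e0 : digit (pack w) 0 = w 0 := hd 0
  have e1 : digit (pack w) 1 = w 1 := hd 1
  have e2 : digit (pack w) 2 = w 2 := hd 2
  have e3 : digit (pack w) 3 = w 3 := hd 3
  have e4 : digit (pack w) 4 = w 4 := hd 4
  have e5 : digit (pack w) 5 = w 5 := hd 5
  have e6 : digit (pack w) 6 = w 6 := hd 6
  simp only [comb, h0, h1, h2, h3, h4, h5, h6, Nat.add_eq, Nat.mul_eq, hsum]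
  simp only [red, e0, e1, e2, e3, e4, e5, e6, Nat.add_eq, Nat.mul_eq]
  rfl

theorem comb_pack (a : Fin 7 → ZMod 11) (B : Matrix (Fin 7) (Fin 7) (ZMod 11)) :
    comb (pack fun j => (a j).val) (encM B) = pack fun j => (∑ k, a k * B k j).val := by
  have hlt : ∀ x : ZMod 11, x.val < 11 := ZMod.val_lt
  have hwlt : ∀ j, ∑ k, (a k).val * (B k j).val < 65536 := by
    intro j
    calc ∑ k, (a k).val * (B k j).val ≤ ∑ _k : Fin 7, 100 := Finset.sum_le_sum fun k _ => by
          have := hlt (a k); have := hlt (B k j); nlinarith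
      _ < 65536 := by simp
  rw [comb_eq _ _ (fun k => (a k).val) (digit_pack _ fun j => (hlt _).trans (by norm_num))
    (fun j => ∑ k, (a k).val * (B k j).val) hwlt]
  · congr 1
    funext j
    rw [← ZMod.val_natCast]
    congr 1
    simp
  · simp only [encM, pack, Fin.sum_univ_seven]
    ring

theorem encM_mul (A B : Matrix (Fin 7) (Fin 7) (ZMod 11)) :
    encM (A * B) = mul (encM A) (encM B) := by
  simp only [mul, encM]
  simp only [← comb_pack, encM, Matrix.mul_apply]

/-- The packed form of an invertible matrix. -/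
def enc (g : GL (Fin 7) (ZMod 11)) : M7 := encM g

theorem enc_mul (g h : GL (Fin 7) (ZMod 11)) : enc (g * h) = mul (enc g) (enc h) := by
  simp [enc, encM_mul]

theorem enc_injective : Function.Injective enc := fun _ _ h => Units.ext (encM_injective h)

/-- The packed identity. -/
def one : M7 :=
  ⟨1, 65536, 4294967296, 281474976710656, 18446744073709551616, 1208925819614629174706176,
    79228162514264337593543950336⟩

theorem enc_one : enc 1 = one := by
  rw [← beq_iff]
  decide +kernel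

/-- Powers of packed matrices. -/
def pw (M : M7) : ℕ → M7 := Nat.rec one fun _ N => mul N M

theorem enc_pow (g : GL (Fin 7) (ZMod 11)) : ∀ n, enc (g ^ n) = pw (enc g) n
  | 0 => by rw [pow_zero, enc_one]; rfl
  | n + 1 => by
      rw [pow_succ, enc_mul, enc_pow g n]
      rfl

theorem pow_eq_one_iff_beq (g : GL (Fin 7) (ZMod 11)) (n : ℕ) :
    g ^ n = 1 ↔ beq (pw (enc g) n) one = true := by
  rw [beq_iff, ← enc_pow, ← enc_one]
  exact enc_injective.eq_iff.symm

end Cfsg.Lib.J1
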