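import Cfsg.Agent.Lib.J1.Data
import Cfsg.Prelude.Def_Spor_J1

/-!
# Kernel checks of the certificate for the first Janko group
-/

set_option autoImplicit false
set_option maxHeartbeats 0

namespace Cfsg.Lib.J1

/-- Decode a packed matrix. -/
def dec (M : M7) : Matrix (Fin 7) (Fin 7) (ZMod 11) :=
  Matrix.of fun i j => (digit (M.row i) j : ZMod 11)

/-- The packed matrix is in canonical form. -/
def canon (M : M7) : Bool := beq (encM (dec M)) M

/-- The `n`-th subgroup element. -/
def hP (n : ℕ) : M7 := tget one hMTab n

/-- The `i`-th coset representative. -/
def tP (i : ℕ) : M7 := tget one tMTab i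

/-- The `k`-th double coset representative. -/
def kP (k : ℕ) : M7 := tget one kMTab k

theorem canon_gens : canon ga = true ∧ canon gb = true := by
  constructor <;> decide +kernel

theorem hP_canon : (List.range 660).all (fun n => canon (hP n)) = true := by decide +kernel

theorem tP_canon : (List.range 266).all (fun n => canon (tP n)) = true := by decide +kernel

theorem kP_canon : (List.range 5).all (fun n => canon (kP n)) = true := by decide +kernel

theorem zero_checks : beq (hP 0) one = true ∧ beq (tP 0) one = true := by
  constructor <;> decide +kernel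

theorem gens_invertible : beq (mul ga ga) one = true ∧ beq (mul gb (mul gb gb)) one = true := by
  constructor <;> decide +kernel

/-- The parent relation at `n`. -/
def parOK (n : ℕ) : Bool :=
  Nat.blt (Nat.div (tget 0 hParTab n) 2) n &&
    beq (hP n) (mul (if Nat.beq (Nat.mod (tget 0 hParTab n) 2) 0 then ga else gb)
      (hP (Nat.div (tget 0 hParTab n) 2)))

theorem parents_ok : (List.range 659).all (fun n => parOK (n + 1)) = true := by decide +kernel

/-- Closure under the first generator at `n`. -/
def claOK (n : ℕ) : Bool :=
  Nat.blt (tget 0 hClATab n) 660 && beq (mul ga (hP n)) (hP (tget 0 hClATab n))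

/-- Closure under the second generator at `n`. -/
def clbOK (n : ℕ) : Bool :=
  Nat.blt (tget 0 hClBTab n) 660 && beq (mul gb (hP n)) (hP (tget 0 hClBTab n))

theorem closed_left_a : (List.range 660).all claOK = true := by decide +kernel

theorem closed_left_b : (List.range 660).all clbOK = true := by decide +kernel

/-- The coset product relation for one Janko generator. -/
def cosetOK (s : M7) (tab : List (List (ℕ × ℕ))) (i : ℕ) : Bool :=
  Nat.blt (tget (0, 0) tab i).1 266 && (Nat.blt (tget (0, 0) tab i).2 660 &&
    beq (mul s (tP i)) (mul (tP (tget (0, 0) tab i).1) (hP (tget (0, 0) tab i).2)))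

theorem coset_x : (List.range 266).all (cosetOK (enc Spor.jankoX) tXTab) = true := by decide +kernel

theorem coset_y : (List.range 266).all (cosetOK (enc Spor.jankoY) tYTab) = true := by decide +kernel

/-- The double coset decomposition at `i`. -/
def dcOK (i : ℕ) : Bool :=
  Nat.blt (tget (0, 0, 0) tDCTab i).1 660 && (Nat.blt (tget (0, 0, 0) tDCTab i).2.1 5 &&
    (Nat.blt (tget (0, 0, 0) tDCTab i).2.2 660 &&
      beq (mul (mul (hP (tget (0, 0, 0) tDCTab i).1) (kP (tget (0, 0, 0) tDCTab i).2.1))
        (hP (tget (0, 0, 0) tDCTab i).2.2)) (tP i)))

theorem double_cosets : (List.range 266).all dcOK = true := by decide +kernel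

/-- The admissible element orders. -/
def ordList : List ℕ := [1, 2, 3, 5, 6, 7, 10, 11, 15, 19]

/-- The order bound at a pair of double coset and subgroup element. -/
def ordOK (tab : List (List ℕ)) (k n : ℕ) : Bool :=
  ordList.contains (tget 0 tab n) && beq (pw (mul (kP k) (hP n)) (tget 0 tab n)) one

theorem orders_zero : (List.range 660).all (ordOK ord0xTab 0) = true := by decide +kernel

theorem orders_one : (List.range 660).all (ordOK ord1xTab 1) = true := by decide +kernel

theorem orders_two : (List.range 660).all (ordOK ord2xTab 2) = true := by decide +kernel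

theorem orders_three : (List.range 660).all (ordOK ord3xTab 3) = true := by decide +kernel

theorem orders_four : (List.range 660).all (ordOK ord4xTab 4) = true := by decide +kernel

/-- The packed matrix of a word in the Janko generators. -/
def wordP : List Bool → M7
  | [] => one
  | b :: w => mul (if b then enc Spor.jankoY else enc Spor.jankoX) (wordP w)

/-- The word has exactly the order `n`. -/
def exOK (n : ℕ) (w : List Bool) : Bool :=
  beq (pw (wordP w) n) one &&
    (List.range n).all (fun m => Nat.beq m 0 || !beq (pw (wordP w) m) one)

theorem examples_ok : (exOK 6 ex6 && (exOK 7 ex7 && (exOK 10 ex10 && (exOK 11 ex11 &&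
    (exOK 15 ex15 && exOK 19 ex19))))) = true := by decide +kernel

end Cfsg.Lib.J1
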