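import Cfsg.Agent.Lib.J1.Check

/-!
# The element orders of the first Janko group
-/

set_option autoImplicit false

namespace Cfsg.Lib.J1

open Cfsg

/-- The matrices in the tabulated subgroup. -/
def hM' (n : ℕ) : Matrix (Fin 7) (Fin 7) (ZMod 11) := dec (hP n)

/-- The tabulated coset representatives as matrices. -/
def tM' (i : ℕ) : Matrix (Fin 7) (Fin 7) (ZMod 11) := dec (tP i)

/-- The tabulated double coset representatives as matrices. -/
def kM' (k : ℕ) : Matrix (Fin 7) (Fin 7) (ZMod 11) := dec (kP k)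

theorem all_range {n : ℕ} {f : ℕ → Bool} (h : (List.range n).all f = true) {i : ℕ} (hi : i < n) :
    f i = true :=
  List.all_eq_true.mp h i (List.mem_range.mpr hi)

theorem encM_dec {M : M7} (h : canon M = true) : encM (dec M) = M := beq_iff.mp h

theorem encM_hM' {n : ℕ} (hn : n < 660) : encM (hM' n) = hP n := encM_dec (all_range hP_canon hn)

theorem encM_tM' {i : ℕ} (hi : i < 266) : encM (tM' i) = tP i := encM_dec (all_range tP_canon hi)

theorem encM_kM' {k : ℕ} (hk : k < 5) : encM (kM' k) = kP k := encM_dec (all_range kP_canon hk)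

theorem encM_one : encM 1 = one := by
  have h := enc_one
  rwa [enc, Units.val_one] at h

theorem hM'_zero : hM' 0 = 1 :=
  encM_injective (by rw [encM_hM' (by norm_num), encM_one, beq_iff.mp zero_checks.1])

theorem tM'_zero : tM' 0 = 1 :=
  encM_injective (by rw [encM_tM' (by norm_num), encM_one, beq_iff.mp zero_checks.2])

/-- The tabulated subgroup as a set of matrices. -/
def hSet : Set (Matrix (Fin 7) (Fin 7) (ZMod 11)) := {A | ∃ n < 660, A = hM' n}

theorem exists_parent {n : ℕ} (hn : n + 1 < 660) :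
    ∃ p ≤ n, hM' (n + 1) = dec ga * hM' p ∨ hM' (n + 1) = dec gb * hM' p := by
  have h := all_range parents_ok (show n < 659 by omega)
  simp only [parOK, Bool.and_eq_true, Nat.blt_eq] at h
  refine ⟨Nat.div (tget 0 hParTab (n + 1)) 2, by omega, ?_⟩
  have hp : Nat.div (tget 0 hParTab (n + 1)) 2 < 660 := by omega
  have h2 := beq_iff.mp h.2
  split at h2
  · left
    exact encM_injective (by rw [encM_mul, encM_hM' hn, encM_hM' hp, encM_dec canon_gens.1]; exact h2)
  · right
    exact encM_injective (by rw [encM_mul, encM_hM' hn, encM_hM' hp, encM_dec canon_gens.2]; exact h2)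

theorem mul_left_a {A : Matrix (Fin 7) (Fin 7) (ZMod 11)} (hA : A ∈ hSet) : dec ga * A ∈ hSet := by
  obtain ⟨n, hn, rfl⟩ := hA
  have h := all_range closed_left_a hn
  simp only [claOK, Bool.and_eq_true, Nat.blt_eq] at h
  refine ⟨_, h.1, encM_injective ?_⟩
  rw [encM_mul, encM_hM' hn, encM_hM' h.1, encM_dec canon_gens.1]
  exact beq_iff.mp h.2

theorem mul_left_b {A : Matrix (Fin 7) (Fin 7) (ZMod 11)} (hA : A ∈ hSet) : dec gb * A ∈ hSet := by
  obtain ⟨n, hn, rfl⟩ := hA
  have h := all_range closed_left_b hn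
  simp only [clbOK, Bool.and_eq_true, Nat.blt_eq] at h
  refine ⟨_, h.1, encM_injective ?_⟩
  rw [encM_mul, encM_hM' hn, encM_hM' h.1, encM_dec canon_gens.2]
  exact beq_iff.mp h.2

theorem gen_inverses : dec ga * dec ga = 1 ∧ dec gb * (dec gb * dec gb) = 1 := by
  constructor <;> apply encM_injective
  · rw [encM_mul, encM_dec canon_gens.1, encM_one]
    exact beq_iff.mp gens_invertible.1
  · rw [encM_mul, encM_mul, encM_dec canon_gens.2, encM_one]
    exact beq_iff.mp gens_invertible.2

theorem hM'_props : ∀ n, n < 660 → (∀ A ∈ hSet, hM' n * A ∈ hSet) ∧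
    ∃ B, hM' n * B = 1 := by
  intro n
  induction n using Nat.strong_induction_on with
  | _ n ih =>
    intro hn
    rcases n with - | n
    · rw [hM'_zero]
      exact ⟨fun A hA => by rwa [one_mul], 1, one_mul 1⟩
    · obtain ⟨p, hp, hc⟩ := exists_parent hn
      obtain ⟨hclosed, B, hB⟩ := ih p (by omega) (by omega)
      rcases hc with hc | hc
      · refine ⟨fun A hA => by rw [hc, mul_assoc]; exact mul_left_a (hclosed A hA), B * dec ga, ?_⟩
        rw [hc, mul_assoc, ← mul_assoc (hM' p), hB, one_mul, gen_inverses.1]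
      · refine ⟨fun A hA => by rw [hc, mul_assoc]; exact mul_left_b (hclosed A hA),
          B * (dec gb * dec gb), ?_⟩
        rw [hc, mul_assoc, ← mul_assoc (hM' p), hB, one_mul, gen_inverses.2]

theorem hM'_mul {n m : ℕ} (hn : n < 660) (hm : m < 660) : ∃ l < 660, hM' n * hM' m = hM' l :=
  (hM'_props n hn).1 _ ⟨m, hm, rfl⟩

/-- The union of the tabulated cosets. -/
def cosetSet : Set (Matrix (Fin 7) (Fin 7) (ZMod 11)) :=
  {A | ∃ i < 266, ∃ n < 660, A = tM' i * hM' n}

theorem cosetSet_closed {g : GL (Fin 7) (ZMod 11)} {tab : List (List (ℕ × ℕ))}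
    (hg : (List.range 266).all (cosetOK (enc g) tab) = true)
    {A : Matrix (Fin 7) (Fin 7) (ZMod 11)} (hA : A ∈ cosetSet) :
    (g : Matrix (Fin 7) (Fin 7) (ZMod 11)) * A ∈ cosetSet := by
  obtain ⟨i, hi, n, hn, rfl⟩ := hA
  have h := all_range hg hi
  simp only [cosetOK, Bool.and_eq_true, Nat.blt_eq] at h
  have e : (g : Matrix (Fin 7) (Fin 7) (ZMod 11)) * tM' i =
      tM' (tget (0, 0) tab i).1 * hM' (tget (0, 0) tab i).2 := by
    apply encM_injective
    rw [encM_mul, encM_mul, encM_tM' hi, encM_tM' h.1, encM_hM' h.2.1]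
    exact beq_iff.mp h.2.2
  obtain ⟨l, hl, hl'⟩ := hM'_mul h.2.1 hn
  exact ⟨_, h.1, l, hl, by rw [← mul_assoc, e, mul_assoc, hl']⟩

theorem mem_cosetSet {g : GL (Fin 7) (ZMod 11)} (hg : g ∈ Spor.J1) :
    (g : Matrix (Fin 7) (Fin 7) (ZMod 11)) ∈ cosetSet := by
  have key : ∀ g ∈ Submonoid.closure ({Spor.jankoX, Spor.jankoY} : Set (GL (Fin 7) (ZMod 11))),
      ∀ A ∈ cosetSet, (g : Matrix (Fin 7) (Fin 7) (ZMod 11)) * A ∈ cosetSet := by
    intro g hg
    induction hg using Submonoid.closure_induction with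
    | mem x hx =>
      rcases hx with rfl | rfl
      · exact fun A => cosetSet_closed coset_x
      · exact fun A => cosetSet_closed coset_y
    | one => exact fun A hA => by rwa [Units.val_one, one_mul]
    | mul x y _ _ hx hy => exact fun A hA => by rw [Units.val_mul, mul_assoc]; exact hx _ (hy _ hA)
  have hg' : g ∈ Submonoid.closure ({Spor.jankoX, Spor.jankoY} : Set (GL (Fin 7) (ZMod 11))) := by
    rw [← Subgroup.closure_toSubmonoid_of_finite]
    exact hg
  have h := key g hg' 1 ⟨0, by norm_num, 0, by norm_num, by rw [tM'_zero, hM'_zero, one_mul]⟩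
  rwa [mul_one] at h

theorem encM_pow (A : Matrix (Fin 7) (Fin 7) (ZMod 11)) : ∀ n, encM (A ^ n) = pw (encM A) n
  | 0 => by rw [pow_zero, encM_one]; rfl
  | n + 1 => by
      rw [pow_succ, encM_mul, encM_pow A n]
      rfl

theorem pow_eq_one_of_ordOK {tab : List (List ℕ)} {k n : ℕ} (hk : k < 5) (hn : n < 660)
    (h : ordOK tab k n = true) : ∃ o ∈ ordList, (kM' k * hM' n) ^ o = 1 := by
  simp only [ordOK, Bool.and_eq_true, List.contains_iff_mem] at h
  refine ⟨_, h.1, encM_injective ?_⟩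
  rw [encM_pow, encM_mul, encM_kM' hk, encM_hM' hn, encM_one]
  exact beq_iff.mp h.2

theorem exists_pow_rep {k n : ℕ} (hk : k < 5) (hn : n < 660) :
    ∃ o ∈ ordList, (kM' k * hM' n) ^ o = 1 := by
  interval_cases k
  · exact pow_eq_one_of_ordOK (by norm_num) hn (all_range orders_zero hn)
  · exact pow_eq_one_of_ordOK (by norm_num) hn (all_range orders_one hn)
  · exact pow_eq_one_of_ordOK (by norm_num) hn (all_range orders_two hn)
  · exact pow_eq_one_of_ordOK (by norm_num) hn (all_range orders_three hn)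
  · exact pow_eq_one_of_ordOK (by norm_num) hn (all_range orders_four hn)

/-- Every element order of the first Janko group is one of ten numbers. -/
theorem orderOf_mem (g : Spor.J1) : orderOf g ∈ ordList := by
  obtain ⟨i, hi, n, hn, hg⟩ := mem_cosetSet g.2
  have h := all_range double_cosets hi
  simp only [dcOK, Bool.and_eq_true, Nat.blt_eq] at h
  set a := (tget (0, 0, 0) tDCTab i).1
  set k := (tget (0, 0, 0) tDCTab i).2.1
  set b := (tget (0, 0, 0) tDCTab i).2.2
  have ht : hM' a * kM' k * hM' b = tM' i := by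
    apply encM_injective
    rw [encM_mul, encM_mul, encM_hM' h.1, encM_kM' h.2.1, encM_hM' h.2.2.1, encM_tM' hi]
    exact beq_iff.mp h.2.2.2
  obtain ⟨m, hm, hm'⟩ := hM'_mul h.2.2.1 hn
  obtain ⟨l, hl, hl'⟩ := hM'_mul hm h.1
  have hg' : ((g : GL (Fin 7) (ZMod 11)) : Matrix (Fin 7) (Fin 7) (ZMod 11)) * hM' a =
      hM' a * (kM' k * hM' l) := by
    rw [hg, ← ht, ← hl', ← hm']
    simp only [mul_assoc]
  obtain ⟨o, ho, ho'⟩ := exists_pow_rep h.2.1 hl
  have hpow : SemiconjBy (hM' a) (kM' k * hM' l)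
      ((g : GL (Fin 7) (ZMod 11)) : Matrix (Fin 7) (Fin 7) (ZMod 11)) := hg'.symm
  have h1 := (hpow.pow_right o).eq
  rw [ho', mul_one] at h1
  obtain ⟨B, hB⟩ := (hM'_props a h.1).2
  have h2 : ((g : GL (Fin 7) (ZMod 11)) : Matrix (Fin 7) (Fin 7) (ZMod 11)) ^ o = 1 := by
    calc _ = ((g : GL (Fin 7) (ZMod 11)) : Matrix (Fin 7) (Fin 7) (ZMod 11)) ^ o * (hM' a * B) := by
          rw [hB, mul_one]
      _ = hM' a * B := by rw [← mul_assoc, ← h1]
      _ = 1 := hB
  have h3 : g ^ o = 1 := Subtype.ext (Units.ext (by simpa using h2))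
  have hd := Nat.mem_divisors.mpr ⟨orderOf_dvd_of_pow_eq_one h3, (by
    intro h0; subst h0; exact absurd ho (by decide))⟩
  revert hd
  generalize orderOf g = d
  revert d
  fin_cases ho <;> decide

/-- A word in the Janko generators as an element of the group. -/
def wordG : List Bool → Spor.J1
  | [] => 1
  | b :: w => (if b then ⟨Spor.jankoY, Subgroup.subset_closure (Or.inr rfl)⟩
      else ⟨Spor.jankoX, Subgroup.subset_closure (Or.inl rfl)⟩) * wordG w

theorem enc_wordG : ∀ w, enc (wordG w : GL (Fin 7) (ZMod 11)) = wordP w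
  | [] => enc_one
  | b :: w => by
      cases b <;> simp [wordG, wordP, enc_mul, enc_wordG w]

theorem orderOf_wordG {n : ℕ} (hn : 0 < n) {w : List Bool} (h : exOK n w = true) :
    orderOf (wordG w) = n := by
  simp only [exOK, Bool.and_eq_true] at h
  have key : ∀ m, wordG w ^ m = 1 ↔ beq (pw (wordP w) m) one = true := fun m => by
    rw [← enc_wordG, ← pow_eq_one_iff_beq, Subtype.ext_iff]
    simp
  refine (orderOf_eq_iff hn).mpr ⟨(key n).mpr h.1, fun m hm hm0 hc => ?_⟩
  have h2 := all_range h.2 hm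
  rw [(key m).mp hc] at h2
  simp at h2
  omega

theorem exists_orderOf_large {n : ℕ} (hn : n ∈ [6, 7, 10, 11, 15, 19]) :
    ∃ g : Spor.J1, orderOf g = n := by
  have h := examples_ok
  simp only [Bool.and_eq_true] at h
  simp only [List.mem_cons, List.not_mem_nil, or_false] at hn
  rcases hn with rfl | rfl | rfl | rfl | rfl | rfl
  · exact ⟨_, orderOf_wordG (by norm_num) h.1⟩
  · exact ⟨_, orderOf_wordG (by norm_num) h.2.1⟩
  · exact ⟨_, orderOf_wordG (by norm_num) h.2.2.1⟩
  · exact ⟨_, orderOf_wordG (by norm_num) h.2.2.2.1⟩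
  · exact ⟨_, orderOf_wordG (by norm_num) h.2.2.2.2.1⟩
  · exact ⟨_, orderOf_wordG (by norm_num) h.2.2.2.2.2⟩

/-- The spectrum of the first Janko group. -/
theorem exists_orderOf_iff {n : ℕ} : (∃ g : Spor.J1, orderOf g = n) ↔ n ∈ ordList := by
  refine ⟨fun ⟨g, hg⟩ => hg ▸ orderOf_mem g, fun hn => ?_⟩
  have hdvd : ∀ m ∈ [6, 7, 10, 11, 15, 19], ∀ d, d ∣ m → ∃ g : Spor.J1, orderOf g = d := by
    intro m hm d hd
    obtain ⟨g, hg⟩ := exists_orderOf_large hm
    have hd' : d ∣ orderOf g := hg ▸ hd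
    refine ⟨g ^ (orderOf g / d), ?_⟩
    rw [orderOf_pow_of_dvd (by
      rw [Ne, Nat.div_eq_zero_iff]
      have := Nat.le_of_dvd (orderOf_pos g) hd'
      have := orderOf_pos g
      have : d ≠ 0 := fun h0 => by rw [h0, zero_dvd_iff] at hd'; omega
      omega) (Nat.div_dvd_of_dvd hd'), Nat.div_div_self hd' (orderOf_pos g).ne']
  simp only [ordList, List.mem_cons, List.not_mem_nil, or_false] at hn
  rcases hn with rfl | rfl | rfl | rfl | rfl | rfl | rfl | rfl | rfl | rfl
  all_goals first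
    | exact hdvd 6 (by decide) _ (by decide)
    | exact hdvd 10 (by decide) _ (by decide)
    | exact hdvd 7 (by decide) _ (by decide)
    | exact hdvd 11 (by decide) _ (by decide)
    | exact hdvd 15 (by decide) _ (by decide)
    | exact hdvd 19 (by decide) _ (by decide)

end Cfsg.Lib.J1
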