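import Cfsg.Agent.Lib.J1.Outer
import Cfsg.Agent.Lib.Concrete.StemTools

/-!
No stem extension of the first Janko group.
-/

set_option autoImplicit false

namespace Cfsg.Lib.J1

open Cfsg Cfsg.Lib.Concrete

theorem noStem_two : NoStem 2 J := by
  intro Γ _ _ σ hs hc hcard hle
  have hz : σ.ker ≠ ⊥ := fun h => by rw [h, Subgroup.card_bot] at hcard; omega
  have kk : ∀ z ∈ σ.ker, z * z = 1 := fun z hz' => by
    have : (⟨z, hz'⟩ : σ.ker) ^ 2 = 1 := hcard ▸ pow_card_eq_one'
    rw [pow_two] at this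
    exact congrArg Subtype.val this
  set H := eight.comap σ with hH
  obtain ⟨a₀, ha₀⟩ := hs eA
  have hsame : ∀ x : Γ, σ x * σ x = 1 → σ x ≠ 1 → x * x = a₀ * a₀ := by
    intro x hx hx1
    obtain ⟨g, hg⟩ := exists_conj hx hx1
    obtain ⟨γ, hγ⟩ := hs g
    have hk : (γ * a₀ * γ⁻¹)⁻¹ * x ∈ σ.ker := by
      rw [MonoidHom.mem_ker, map_mul, map_inv, map_mul, map_mul, map_inv, hγ, ha₀, hg, inv_mul_cancel]
    have hcz := Subgroup.mem_center_iff.1 (hc hk)
    have hsq : a₀ * a₀ ∈ Subgroup.center Γ := hc (by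
      rw [MonoidHom.mem_ker, map_mul, ha₀]; exact eA_order.1)
    set b := γ * a₀ * γ⁻¹ with hb
    calc x * x = b * ((b⁻¹ * x) * b) * (b⁻¹ * x) := by group
      _ = b * (b * (b⁻¹ * x)) * (b⁻¹ * x) := by rw [← hcz b]
      _ = b * b * ((b⁻¹ * x) * (b⁻¹ * x)) := by group
      _ = b * b := by rw [kk _ hk, mul_one]
      _ = γ * (a₀ * a₀) * γ⁻¹ := by rw [hb]; group
      _ = a₀ * a₀ := by rw [Subgroup.mem_center_iff.1 hsq γ, mul_inv_cancel_right]
  -- the common square is trivial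
  set w := a₀ * a₀ with hw
  have hwk : w ∈ σ.ker := by rw [MonoidHom.mem_ker, hw, map_mul, ha₀]; exact eA_order.1
  have hwc := Subgroup.mem_center_iff.1 (hc hwk)
  have hw1 : w = 1 := by
    obtain ⟨b₀, hb₀⟩ := hs (eList 2)
    obtain ⟨c₀, hc₀⟩ := hs (eList 3)
    have h1 := eList_mul (i := 1) (j := 2) (by norm_num) (by norm_num)
    have h2 := eList_mul (i := 1) (j := 3) (by norm_num) (by norm_num)
    have h3 := eList_mul (i := 2) (j := 3) (by norm_num) (by norm_num)
    have h4 := eList_mul (i := 1) (j := eMul 2 3) (by norm_num) h3.1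
    have nz : ∀ i, 1 ≤ i → i < 8 → ∀ x : Γ, σ x = eList i → x * x = w := fun i h1 h8 x hx =>
      hsame x (by rw [hx]; exact eList_sq h8) (fun h => by
        have := eList_inj h8 (j := 0) (by norm_num) (hx.symm.trans h)
        omega)
    have sa : a₀ * a₀ = w := rfl
    have sb := nz 2 (by norm_num) (by norm_num) b₀ hb₀
    have sc := nz 3 (by norm_num) (by norm_num) c₀ hc₀
    have sab := nz _ (show 1 ≤ eMul 1 2 by decide) h1.1 (a₀ * b₀) (by rw [map_mul, ha₀, hb₀]; exact h1.2)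
    have sac := nz _ (show 1 ≤ eMul 1 3 by decide) h2.1 (a₀ * c₀) (by rw [map_mul, ha₀, hc₀]; exact h2.2)
    have sbc := nz _ (show 1 ≤ eMul 2 3 by decide) h3.1 (b₀ * c₀) (by rw [map_mul, hb₀, hc₀]; exact h3.2)
    have sabc := nz _ (show 1 ≤ eMul 1 (eMul 2 3) by decide) h4.1 (a₀ * (b₀ * c₀))
      (by rw [map_mul, map_mul, ha₀, hb₀, hc₀, h3.2]; exact h4.2)
    have ww : w * w = 1 := kk w hwk
    have comm : ∀ x y : Γ, x * x = w → y * y = w → (x * y) * (x * y) = w → y * x = x * (y * w) := by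
      intro x y hx hy hxy
      have e : x * (y * x) * y = w := by rw [← hxy]; group
      calc y * x = x⁻¹ * (x * (y * x) * y) * y⁻¹ := by group
        _ = x⁻¹ * (x * x) * y⁻¹ := by rw [e, hx]
        _ = x * y⁻¹ := by group
        _ = x * (y * (y * y)⁻¹) := by group
        _ = x * (y * w) := by rw [hy, inv_eq_of_mul_eq_one_right ww]
    have cba := comm a₀ b₀ sa sb sab
    have cca := comm a₀ c₀ sa sc sac
    have d := comm a₀ (b₀ * c₀) sa sbc sabc
    have e : b₀ * c₀ * a₀ = a₀ * (b₀ * c₀) := by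
      calc b₀ * c₀ * a₀ = b₀ * (c₀ * a₀) := mul_assoc _ _ _
        _ = (b₀ * a₀) * (c₀ * w) := by rw [cca]; group
        _ = a₀ * (b₀ * (w * c₀)) * w := by rw [cba]; group
        _ = a₀ * (b₀ * (c₀ * w)) * w := by rw [hwc c₀]
        _ = a₀ * (b₀ * c₀) * (w * w) := by group
        _ = a₀ * (b₀ * c₀) := by rw [ww, mul_one]
    rw [e] at d
    have d' : a₀ * (b₀ * c₀) * 1 = a₀ * (b₀ * c₀) * w := by rw [mul_one]; exact d.trans (by group)
    exact (mul_left_cancel d').symm
  have hsq : ∀ x ∈ H, x * x = 1 := by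
    intro x hx
    by_cases h1 : σ x = 1
    · exact kk x h1
    · rw [hsame x ?_ h1, hw1]
      obtain ⟨i, hi, he⟩ := (show σ x ∈ eight from hx)
      rw [he]; exact eList_sq hi
  -- a functional on the elementary abelian preimage
  have hinv : ∀ x : H, x⁻¹ = x := fun x =>
    inv_eq_of_mul_eq_one_right (Subtype.ext (hsq x.1 x.2))
  letI : CommGroup H :=
    { (inferInstance : Group H) with
      mul_comm := fun x y => by rw [← hinv (x * y), mul_inv_rev, hinv, hinv] }
  obtain ⟨⟨z, hzk⟩, hz'⟩ := Subgroup.ne_bot_iff_exists_ne_one.1 hz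
  have hz1 : z ≠ 1 := fun h => hz' (Subtype.ext h)
  have hzH : z ∈ H := show σ z ∈ eight by rw [MonoidHom.mem_ker.1 hzk]; exact one_mem _
  have h1 := center_pow_index_eq_one H (MonoidHom.id H) (hc hzk) (hle hzk) hzH
  have h2 : z ^ H.index = 1 := congrArg Subtype.val h1
  obtain ⟨k, hk⟩ : Odd H.index := by
    rw [hH, Subgroup.index_comap_of_surjective _ hs, index_eight]; decide
  rw [hk, pow_add, pow_mul, pow_two, kk z hzk, one_pow, one_mul, pow_one] at h2
  exact hz1 h2

theorem multiplier : HasCyclicSchurMultiplier J 1 := by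
  refine hasTrivialMultiplier fun p hp => ?_
  by_cases h2 : p = 2
  · subst h2; exact noStem_two
  refine noStem_of_not_sq_dvd hp fun hd => ?_
  rw [Cfsg.Lib.H3.JankoOne.card_J] at hd
  have hm := Cfsg.Lib.H3.JankoOne.prime_mem hp ((dvd_pow_self p two_ne_zero).trans hd)
  simp only [List.mem_cons, List.not_mem_nil, or_false] at hm
  rcases hm with rfl | rfl | rfl | rfl | rfl | rfl <;> revert hd <;> first | (intro; exact h2 rfl) | decide

theorem card_out : Nat.card (Out J) = 1 := by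
  rw [show Nat.card (Out J) = (Inn J).index from rfl, Subgroup.index_eq_one, eq_top_iff]
  exact fun φ _ => mem_inn φ

end Cfsg.Lib.J1
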